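import Groth.Agent.Cyc90.GenSec.Alg
import Groth.Agent.Ega11.LatticeNodes
import Groth.Agent.Props58.LocFree.Criteria
import Groth.Agent.GGDesc24.Basic
import Groth.Prelude.Def_Curv2
import Groth.Agent.QC70.PushGeneric
import Mathlib.RingTheory.LocalRing.Module
import Groth.Agent.QC70.CoprodStalk
import Groth.Agent.QC70.CohOps
import Groth.Agent.CD47.Resolution

/-! A general combination of generating sections of a bundle of large rank vanishes nowhere. -/

set_option autoImplicit false
set_option backward.isDefEq.respectTransparency.types false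
set_option linter.style.haveILetI false
universe u

open CategoryTheory CategoryTheory.Limits AlgebraicGeometry TopologicalSpace Opposite IsLocalRing
open Groth.Agent.QC70 Groth.Agent.Props58.LocFree

noncomputable section

namespace Groth.Agent.Cyc90.GenSec

variable {X : Scheme.{u}}

/-- The germs of the global sections span every stalk of a globally generated module. -/
theorem span_germ_eq_top {E : X.Modules} (h : Curv2.IsGloballyGenerated E) (x : X) :
    Submodule.span (X.presheaf.stalk x)
      (Set.range fun t : Γ(E, ⊤) => germM E ⊤ x trivial t) = ⊤ := by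
  have hepi : Epi (Sigma.desc fun t : Γ(E, ⊤) => unitHom t) := by
    obtain h' := (GGDesc24.isGloballyGenerated_iff E).1 h
    refine Preadditive.epi_of_cancel_zero _ fun {T} q hq => h' T q fun t => ?_
    have h1 : unitHom t ≫ q = 0 := by
      rw [← Sigma.ι_desc (fun t : Γ(E, ⊤) => unitHom t) t]
      exact (Category.assoc _ _ _).trans ((congrArg (_ ≫ ·) hq).trans comp_zero)
    have h2 := congr((Scheme.Modules.Hom.app $h1 ⊤) (toUnit 1))
    rw [Scheme.Modules.Hom.comp_app, ConcreteCategory.comp_apply, unitHom_app_one] at h2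
    exact h2
  let p := Sigma.desc fun t : Γ(E, ⊤) => unitHom t
  refine Submodule.eq_top_iff'.2 fun e => ?_
  obtain ⟨w, rfl⟩ := surjective_stalkMapM_of_epi p x e
  suffices hall : ∀ w, stalkLinear p x w ∈ Submodule.span (X.presheaf.stalk x)
      (Set.range fun t : Γ(E, ⊤) => germM E ⊤ x trivial t) from hall w
  intro w
  classical
  obtain ⟨v, rfl⟩ := surjective_coprodStalkMap (fun _ : Γ(E, ⊤) => unitMod X) x w
  induction v using DirectSum.induction_on with
  | zero => rw [map_zero, map_zero]; exact zero_mem _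
  | add y z hy hz => rw [map_add, map_add]; exact add_mem hy hz
  | of t a =>
    rw [show DirectSum.of _ t a = DirectSum.lof (X.presheaf.stalk x) _
      (fun _ : Γ(E, ⊤) => (unitMod X).presheaf.stalk x) t a from rfl, coprodStalkMap_lof]
    obtain ⟨r, rfl⟩ := (unitStalkEquiv x).surjective a
    show stalkMapM p x (stalkMapM _ x _) ∈ _
    rw [← stalkMapM_comp, Sigma.ι_desc,
      show unitStalkEquiv x r = r • germM (unitMod X) ⊤ x trivial (toUnit 1) from rfl]
    rw [show stalkMapM (unitHom t) x (r • germM (unitMod X) ⊤ x trivial (toUnit 1)) =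
      r • stalkMapM (unitHom t) x (germM (unitMod X) ⊤ x trivial (toUnit 1)) from
      (stalkLinear (unitHom t) x).map_smul r _]
    refine Submodule.smul_mem _ r (Submodule.subset_span ⟨t, ?_⟩)
    rw [stalkMapM_germ, unitHom_app_one]

/-- A frame consisting of members of a generating family of global sections. -/
theorem exists_frame_of_span {r : ℕ} {E : X.Modules} (hE : FlatMod.IsFinLocFreeOfRank r E)
    {L : Type u} (t : L → Γ(E, ⊤)) {x : X}
    (hgen : Submodule.span (X.presheaf.stalk x) (Set.range fun l => germM E ⊤ x trivial (t l)) = ⊤) :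
    ∃ (W : X.affineOpens) (a : Fin r → L), x ∈ W.1 ∧
      StalkBasis fun i => res E (le_top : W.1 ≤ ⊤) (t (a i)) := by
  obtain ⟨U, hxU, ⟨φ⟩⟩ := hE x
  obtain ⟨e, he⟩ := exists_stalkBasis_of_iso φ
  haveI : E.IsFiniteType := isFiniteType_of_isFinLocFree fun y => by
    obtain ⟨U, hy, hU⟩ := hE y; exact ⟨U, r, hy, hU⟩
  have hbas : ∀ (y : X) (hy : y ∈ U), ∃ φ : (Fin r → X.presheaf.stalk y) ≃ₗ[X.presheaf.stalk y]
      E.presheaf.stalk y, True := fun y hy =>
    ⟨LinearEquiv.ofBijective (Fintype.linearCombination (X.presheaf.stalk y)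
      fun i => germM E U y hy (e i)) (by
        convert he y hy using 1
        exact funext fun c => Fintype.linearCombination_apply _ _ _), trivial⟩
  obtain ⟨φx, -⟩ := hbas x hxU
  haveI : Module.Free (X.presheaf.stalk x) (E.presheaf.stalk x) := Module.Free.of_equiv φx
  haveI : Module.Finite (X.presheaf.stalk x) (E.presheaf.stalk x) := Module.Finite.equiv φx
  haveI : Module.FinitePresentation (X.presheaf.stalk x) (E.presheaf.stalk x) :=
    Module.finitePresentation_of_projective _ _
  obtain ⟨κ, a, b, hb⟩ := Module.exists_basis_of_span_of_flat _ hgen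
  haveI : Finite κ := Module.Finite.finite_basis b
  let σ : Fin r ≃ κ := (Pi.basisFun (X.presheaf.stalk x) (Fin r) |>.map φx).indexEquiv b
  let s : Fin r → Γ(E, ⊤) := fun i => t (a (σ i))
  have hsurj : Function.Surjective (germComb s x trivial) := fun z => by
    refine ⟨fun i => (b.reindex σ.symm).repr z i, ?_⟩
    refine Eq.trans (Finset.sum_congr rfl fun i _ => ?_) ((b.reindex σ.symm).sum_repr z)
    rw [Module.Basis.reindex_apply, Equiv.symm_symm, hb]
  obtain ⟨W₁, hleW₁, hxW₁, hW₁⟩ := exists_nhd_surjective s (U := ⊤) (x := x) trivial hsurj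
  obtain ⟨W, hW, hxW, hWle⟩ := exists_isAffineOpen_mem_and_subset (U := W₁ ⊓ U) (x := x) ⟨hxW₁, hxU⟩
  refine ⟨⟨W, hW⟩, fun i => a (σ i), hxW, fun y hy => ?_⟩
  rw [show germComb (fun i => res E (le_top : W ≤ ⊤) (t (a (σ i)))) y hy = germComb s y trivial from
    funext (germComb_res s le_top y hy)]
  obtain ⟨φy, -⟩ := hbas y (hWle hy).2
  let ψ := φy.symm.toLinearMap ∘ₗ Fintype.linearCombination (X.presheaf.stalk y)
    fun i => germM E ⊤ y trivial (s i)
  have hψ : Function.Bijective ψ := by
    refine OrzechProperty.bijective_of_surjective_endomorphism ψ fun z => ?_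
    obtain ⟨c, hc⟩ := hW₁ y (hWle hy).1 (φy z)
    refine ⟨c, ?_⟩
    show φy.symm (Fintype.linearCombination _ _ c) = z
    rw [Fintype.linearCombination_apply, LinearEquiv.symm_apply_eq]
    exact hc
  have : germComb s y trivial = φy ∘ ψ := funext fun c => by
    show _ = φy (φy.symm (Fintype.linearCombination _ _ c))
    rw [LinearEquiv.apply_symm_apply, Fintype.linearCombination_apply]
    rfl
  rw [this]
  exact φy.bijective.comp hψ

/-- A combination with scalar coefficients. -/
def comb {k : Type u} [Field k] [X.Over (Spec (CommRingCat.of k))] {E : X.Modules} {L : Type u}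
    [Fintype L] (t : L → Γ(E, ⊤)) (v : L → k) : Γ(E, ⊤) :=
  ∑ l, (show Γ(X, ⊤) from Coh.toGlobal (X ↘ Spec (CommRingCat.of k)) (v l)) • t l

/-- Some combination of generating sections vanishes nowhere. -/
theorem exists_nonvanishing (k : Type u) [Field k] [Infinite k] [X.Over (Spec (CommRingCat.of k))]
    [IsIntegral X] [LocallyOfFiniteType (X ↘ Spec (CommRingCat.of k))]
    [QuasiCompact (X ↘ Spec (CommRingCat.of k))] {r : ℕ} {E : X.Modules}
    (hE : FlatMod.IsFinLocFreeOfRank r E) (hdim : topologicalKrullDim X < (r : WithBot ℕ∞))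
    {L : Type u} [Fintype L] (t : L → Γ(E, ⊤))
    (hgen : ∀ x : X,
      Submodule.span (X.presheaf.stalk x) (Set.range fun l => germM E ⊤ x trivial (t l)) = ⊤) :
    ∃ v : L → k, ∀ x : X,
      germM E ⊤ x trivial (comb t v) ∉ maximalIdeal (X.presheaf.stalk x) •
        (⊤ : Submodule (X.presheaf.stalk x) (E.presheaf.stalk x)) := by
  classical
  haveI : CompactSpace X := QuasiCompact.compactSpace_of_compactSpace (X ↘ Spec (CommRingCat.of k))
  choose W a hxW hW using fun x : X => exists_frame_of_span hE t (hgen x)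
  obtain ⟨T, hT⟩ := isCompact_univ.elim_finite_subcover (fun x : X => ((W x).1 : Set X))
    (fun x => (W x).1.2) (fun x _ => Set.mem_iUnion.2 ⟨x, hxW x⟩)
  have hloc : ∀ x : X, ∃ F : MvPolynomial L k, F ≠ 0 ∧ ∀ (v : L → k) (y : X) (hy : y ∈ (W x).1),
      germM E ⊤ y trivial (comb t v) ∈ maximalIdeal (X.presheaf.stalk y) •
        (⊤ : Submodule (X.presheaf.stalk y) (E.presheaf.stalk y)) →
        MvPolynomial.eval v F = 0 := by
    intro x
    let U := (W x).1
    haveI : Nonempty U := ⟨⟨x, hxW x⟩⟩
    let ρ : k →+* Γ(X, U) :=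
      ((X ↘ Spec (CommRingCat.of k)).appLE ⊤ U le_top).hom.comp
        (Scheme.ΓSpecIso (CommRingCat.of k)).inv.hom
    letI : Algebra k Γ(X, U) := ρ.toAlgebra
    haveI : Algebra.FiniteType k Γ(X, U) := by
      have h := (X ↘ Spec (CommRingCat.of k)).finiteType_appLE (isAffineOpen_top _) (W x).2 le_top
      exact RingHom.FiniteType.comp h (RingHom.FiniteType.of_surjective
        (Scheme.ΓSpecIso (CommRingCat.of k)).inv.hom
        (Scheme.ΓSpecIso (CommRingCat.of k)).commRingCatIsoToRingEquiv.symm.surjective)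
    have hdimU : ringKrullDim Γ(X, U) < (r : WithBot ℕ∞) := by
      refine lt_of_le_of_lt ?_ hdim
      rw [← PrimeSpectrum.topologicalKrullDim_eq_ringKrullDim]
      exact (W x).2.fromSpec.isOpenEmbedding.isInducing.topologicalKrullDim_le
    choose c hc using fun l => (hW x).exists_comb (W := U) le_rfl (res E le_top (t l))
    have hc' : ∀ (y : X) (hy : y ∈ U) (l : L),
        germComb (fun i => res E (le_top : U ≤ ⊤) (t (a x i))) y hy
          (fun j => X.presheaf.germ U y hy (c l j)) = germM E ⊤ y trivial (t l) := fun y hy l => by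
      have h := congrArg (germM E U y hy) (hc l)
      rw [germ_comb] at h
      exact h.trans (germM_res _ _ _)
    have ha : ∀ i j, c (a x i) j = if i = j then 1 else 0 := fun i j => by
      refine congrFun ((hW x).eq_of_comb le_rfl (b := fun j => if i = j then (1 : Γ(X, U)) else 0)
        ((hc (a x i)).trans ?_)) j
      rw [Finset.sum_eq_single i]
      · rw [if_pos rfl, one_smul]; exact (res_res _ _ _).symm
      · intro j _ hne; rw [if_neg (fun h => hne h.symm), zero_smul]
      · simp
    obtain ⟨F, hF0, hF⟩ := exists_poly_unimodular k Γ(X, U) r hdimU c (a x) ha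
    refine ⟨F, hF0, fun v y hy hmem => hF v ((W x).2.primeIdealOf ⟨y, hy⟩).asIdeal inferInstance fun j => ?_⟩
    let S := fun i => res E (le_top : U ≤ ⊤) (t (a x i))
    let β : Fin r → X.presheaf.stalk y :=
      fun j => X.presheaf.germ U y hy (∑ l, ρ (v l) * c l j)
    have hβ : germComb S y hy β = germM E ⊤ y trivial (comb t v) := by
      rw [comb, germM_sum]
      simp only [germComb, β, map_sum, map_mul, Finset.sum_smul, mul_smul]
      rw [Finset.sum_comm]
      refine Finset.sum_congr rfl fun l _ => ?_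
      rw [← Finset.smul_sum, germM_smul]
      exact congrArg₂ (· • ·) (TopCat.Presheaf.germ_res_apply X.presheaf (homOfLE (le_top : U ≤ ⊤)) y hy _)
        (hc' y hy l)
    let φ := LinearEquiv.ofBijective
      (Fintype.linearCombination (X.presheaf.stalk y) fun i => germM E U y hy (S i)) (by
        convert hW x y hy using 1
        exact funext fun c => Fintype.linearCombination_apply _ _ _)
    have hβm : β ∈ maximalIdeal (X.presheaf.stalk y) • (⊤ : Submodule (X.presheaf.stalk y) (Fin r → X.presheaf.stalk y)) := by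
      have h := Submodule.mem_map_of_mem (f := φ.symm.toLinearMap) hmem
      rw [Submodule.map_smul'', Submodule.map_top, LinearEquiv.range] at h
      convert h using 1
      rw [← hβ]
      exact (LinearEquiv.eq_symm_apply φ).2 (Fintype.linearCombination_apply _ _ _)
    have hj : β j ∈ maximalIdeal (X.presheaf.stalk y) := by
      have h := Submodule.mem_map_of_mem (f := LinearMap.proj j) hβm
      rw [Submodule.map_smul''] at h
      exact (Submodule.smul_le.2 fun a ha b _ => Ideal.mul_mem_right b _ ha) h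
    letI := TopCat.Presheaf.algebra_section_stalk X.presheaf ⟨y, hy⟩
    haveI := (W x).2.isLocalization_stalk ⟨y, hy⟩
    exact (IsLocalization.AtPrime.to_map_mem_maximal_iff (X.presheaf.stalk y)
      ((W x).2.primeIdealOf ⟨y, hy⟩).asIdeal _).1 hj
  choose F hF0 hF using hloc
  have hne : ∏ x ∈ T, F x ≠ 0 := Finset.prod_ne_zero_iff.2 fun x _ => hF0 x
  obtain ⟨v, hv⟩ : ∃ v, MvPolynomial.eval v (∏ x ∈ T, F x) ≠ 0 := by
    by_contra hc
    push Not at hc
    exact hne (MvPolynomial.funext fun v => (hc v).trans (map_zero _).symm)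
  refine ⟨v, fun y hy => ?_⟩
  obtain ⟨x, hx, hyx⟩ := Set.mem_iUnion₂.1 (hT (Set.mem_univ y))
  rw [map_prod] at hv
  exact Finset.prod_ne_zero_iff.1 hv x hx (hF x v y hyx hy)

/-- A nowhere vanishing section splits off locally. -/
theorem mono_and_locFree_cokernel [IsLocallyNoetherian X] {r : ℕ} {E : X.Modules}
    (hE : FlatMod.IsFinLocFreeOfRank (r + 1) E) (s : Γ(E, ⊤))
    (hs : ∀ x : X, germM E ⊤ x trivial s ∉ maximalIdeal (X.presheaf.stalk x) •
        (⊤ : Submodule (X.presheaf.stalk x) (E.presheaf.stalk x))) :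
    Mono (unitHom s) ∧ FlatMod.IsFinLocFreeOfRank r (cokernel (unitHom s)) := by
  classical
  have hu : ∀ (x : X) (c : X.presheaf.stalk x),
      stalkMapM (unitHom s) x (unitStalkEquiv x c) = c • germM E ⊤ x trivial s := fun x c => by
    rw [show unitStalkEquiv x c = c • germM (unitMod X) ⊤ x trivial (toUnit 1) from rfl]
    refine ((stalkLinear (unitHom s) x).map_smul c _).trans (congrArg (c • ·) ?_)
    show stalkMapM (unitHom s) x _ = _
    rw [stalkMapM_germ, unitHom_app_one]
  have key : ∀ x : X, ∃ φ : (Fin (r + 1) → X.presheaf.stalk x) ≃ₗ[X.presheaf.stalk x] E.presheaf.stalk x,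
      ∃ j, IsUnit (φ.symm (germM E ⊤ x trivial s) j) := fun x => by
    obtain ⟨U, hxU, ⟨φ⟩⟩ := hE x
    obtain ⟨e, he⟩ := exists_stalkBasis_of_iso φ
    refine ⟨LinearEquiv.ofBijective (Fintype.linearCombination (X.presheaf.stalk x)
      fun i => germM E U x hxU (e i)) (by
        convert he x hxU using 1
        exact funext fun c => Fintype.linearCombination_apply _ _ _), ?_⟩
    set ψ := LinearEquiv.ofBijective (Fintype.linearCombination (X.presheaf.stalk x)
      fun i => germM E U x hxU (e i)) _
    by_contra hc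
    push Not at hc
    refine hs x ?_
    rw [← ψ.apply_symm_apply (germM E ⊤ x trivial s)]
    show Fintype.linearCombination _ _ _ ∈ _
    rw [Fintype.linearCombination_apply]
    exact sum_mem fun i _ => Submodule.smul_mem_smul ((mem_maximalIdeal _).2 (hc i)) trivial
  have hmono : Mono (unitHom s) := mono_of_injective_stalkMapM _ fun x a b hab => by
    obtain ⟨c, rfl⟩ := (unitStalkEquiv x).surjective a
    obtain ⟨d, rfl⟩ := (unitStalkEquiv x).surjective b
    rw [hu, hu] at hab
    obtain ⟨φ, j, hj⟩ := key x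
    have h := congrFun (congrArg φ.symm hab) j
    rw [map_smul, map_smul, Pi.smul_apply, Pi.smul_apply, smul_eq_mul, smul_eq_mul] at h
    exact congrArg _ (hj.mul_left_injective h)
  refine ⟨hmono, Ega11.LatticeNodes.isFinLocFreeOfRank_of_stalks ?_ r fun x => ?_⟩
  · exact QC70.isCoh_cokernel _ QC70.isCoh_unit.1 (CD47.isCoh_of_isFinLocFree fun y => by
      obtain ⟨U, hy, hU⟩ := hE y; exact ⟨U, r + 1, hy, hU⟩)
  obtain ⟨φ, j, hj⟩ := key x
  set u := φ.symm (germM E ⊤ x trivial s)
  have hex : ∀ z, stalkMapM (cokernel.π (unitHom s)) x z = 0 ↔ ∃ c, c • germM E ⊤ x trivial s = z := fun z => by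
    constructor
    · intro hz
      obtain ⟨d, hd⟩ := stalkMapM_exact (ShortComplex.mk (unitHom s) (cokernel.π _) (cokernel.condition _))
        (ShortComplex.exact_of_g_is_cokernel _ (cokernelIsCokernel _)) x z hz
      obtain ⟨c, rfl⟩ := (unitStalkEquiv x).surjective d
      exact ⟨c, (hu x c).symm.trans hd⟩
    · rintro ⟨c, rfl⟩
      rw [← hu, ← stalkMapM_comp, cokernel.condition, stalkMapM_zero]
  let ins : (Fin r → X.presheaf.stalk x) →ₗ[X.presheaf.stalk x] E.presheaf.stalk x :=
    φ.toLinearMap ∘ₗ Fintype.linearCombination (X.presheaf.stalk x)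
      fun i => (Pi.single (j.succAbove i) 1 : Fin (r + 1) → X.presheaf.stalk x)
  have hins : ∀ w, ins w = φ (j.insertNth 0 w) := fun w => by
    show φ (Fintype.linearCombination _ _ w) = _
    rw [Fintype.linearCombination_apply]
    refine congrArg φ (funext fun m => ?_)
    rcases Fin.eq_self_or_eq_succAbove j m with rfl | ⟨m, rfl⟩ <;>
      simp [Finset.sum_apply, Pi.single_apply, Fin.ne_succAbove]
  refine ⟨LinearEquiv.ofBijective ((stalkLinear (cokernel.π (unitHom s)) x).comp ins)
    ⟨(injective_iff_map_eq_zero _).2 fun w hw => ?_, fun z => ?_⟩⟩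
  · obtain ⟨c, hc⟩ := (hex (ins w)).1 hw
    have h := congrArg φ.symm hc
    rw [map_smul, hins, LinearEquiv.symm_apply_apply] at h
    have hc0 : c = 0 := by
      have := congrFun h j
      rw [Pi.smul_apply, smul_eq_mul, Fin.insertNth_apply_same] at this
      exact (hj.mul_left_eq_zero).1 this
    funext m
    have := congrFun h (j.succAbove m)
    rw [hc0, zero_smul, Pi.zero_apply, Fin.insertNth_apply_succAbove] at this
    exact this.symm
  · obtain ⟨e, rfl⟩ := surjective_stalkMapM_of_epi (cokernel.π (unitHom s)) x z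
    let w := φ.symm e
    let c : X.presheaf.stalk x := w j * ↑hj.unit⁻¹
    refine ⟨fun m => w (j.succAbove m) - c * u (j.succAbove m), ?_⟩
    refine sub_eq_zero.1 ((map_sub (stalkLinear (cokernel.π (unitHom s)) x) _ e).symm.trans ?_)
    refine (hex _).2 ⟨-c, φ.symm.injective ?_⟩
    rw [map_smul, map_sub, hins, LinearEquiv.symm_apply_apply]
    funext m
    rcases Fin.eq_self_or_eq_succAbove j m with rfl | ⟨m, rfl⟩
    · rw [Pi.smul_apply, Pi.sub_apply, Fin.insertNth_apply_same, smul_eq_mul]
      show -c * u m = 0 - w m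
      rw [zero_sub, neg_mul, neg_inj, mul_assoc, IsUnit.val_inv_mul, mul_one]
    · rw [Pi.smul_apply, Pi.sub_apply, Fin.insertNth_apply_succAbove, smul_eq_mul]
      ring

/-- Finitely many global sections generate a globally generated bundle. -/
theorem exists_finite_generating [CompactSpace X] {r : ℕ} {E : X.Modules}
    (hE : FlatMod.IsFinLocFreeOfRank r E) (hgen : Curv2.IsGloballyGenerated E) :
    ∃ (L : Type u) (_ : Fintype L) (t : L → Γ(E, ⊤)), ∀ x : X,
      Submodule.span (X.presheaf.stalk x) (Set.range fun l => germM E ⊤ x trivial (t l)) = ⊤ := by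
  classical
  choose W a hxW hW using fun x : X => exists_frame_of_span hE id (span_germ_eq_top hgen x)
  obtain ⟨T, hT⟩ := isCompact_univ.elim_finite_subcover (fun x : X => ((W x).1 : Set X))
    (fun x => (W x).1.2) (fun x _ => Set.mem_iUnion.2 ⟨x, hxW x⟩)
  refine ⟨ULift.{u} (↥T × Fin r), inferInstance, fun l => a l.down.1.1 l.down.2, fun y => ?_⟩
  obtain ⟨x, hx, hyx⟩ := Set.mem_iUnion₂.1 (hT (Set.mem_univ y))
  refine Submodule.eq_top_iff'.2 fun z => ?_
  obtain ⟨c, hc⟩ := (hW x y hyx).2 z
  rw [← hc]
  refine sum_mem fun i _ => Submodule.smul_mem _ _ (Submodule.subset_span ⟨⟨⟨x, hx⟩, i⟩, ?_⟩)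
  exact (germM_res (le_top : (W x).1 ≤ ⊤) hyx (a x i)).symm

end Groth.Agent.Cyc90.GenSec
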