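import Groth.Agent.E4O.DimField
import Mathlib.RingTheory.KrullDimension.Polynomial
import Mathlib.Algebra.MvPolynomial.Funext
import Mathlib.RingTheory.KrullDimension.Field
import Mathlib.RingTheory.AlgebraicIndependent.TranscendenceBasis

/-! General linear combinations avoid a set of too high codimension. -/

set_option autoImplicit false
set_option linter.style.haveILetI false
universe u

noncomputable section

namespace Groth.Agent.Cyc90.GenSec

/-- If the combinations of `N` vectors in `A ^ r` contain the unit vectors among the given ones and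
`dim A < r`, then all combinations with scalars outside a hypersurface are unimodular. -/
theorem exists_poly_unimodular (k A : Type u) [Field k] [CommRing A] [IsDomain A] [Algebra k A]
    [Algebra.FiniteType k A] (r : ℕ) (hdim : ringKrullDim A < (r : WithBot ℕ∞))
    {L : Type u} [Fintype L] (c : L → Fin r → A) (a : Fin r → L)
    (ha : ∀ i j, c (a i) j = if i = j then 1 else 0) :
    ∃ F : MvPolynomial L k, F ≠ 0 ∧ ∀ (v : L → k) (P : Ideal A) (_ : P.IsPrime),
      (∀ j, ∑ l, algebraMap k A (v l) * c l j ∈ P) → MvPolynomial.eval v F = 0 := by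
  classical
  haveI : IsNoetherianRing A := Algebra.FiniteType.isNoetherianRing k A
  have hinj : Function.Injective a := fun i i' e => by
    by_contra hne
    have h1 := ha i i
    rw [e, ha i' i, if_neg (fun h => hne h.symm), if_pos rfl] at h1
    exact zero_ne_one h1
  let τ := {l : L // l ∉ Finset.univ.image a}
  let W : L → MvPolynomial τ A := fun l =>
    if h : ∃ i, a i = l then -∑ t : τ, MvPolynomial.C (c t.1 h.choose) * MvPolynomial.X t
    else MvPolynomial.X ⟨l, fun hl => h (by simpa using hl)⟩
  have hWa : ∀ i, W (a i) = -∑ t : τ, MvPolynomial.C (c t.1 i) * MvPolynomial.X t := fun i => by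
    have h : ∃ i', a i' = a i := ⟨i, rfl⟩
    simp only [W, dif_pos h, hinj h.choose_spec]
  have hWt : ∀ t : τ, W t.1 = MvPolynomial.X t := fun t => by
    have h : ¬ ∃ i, a i = t.1 := fun ⟨i, hi⟩ => t.2 (by simp [← hi])
    simp only [W, dif_neg h]
    rfl
  let Φ : MvPolynomial L k →ₐ[k] MvPolynomial τ A := MvPolynomial.aeval W
  have hni : ¬ Function.Injective Φ := by
    intro hi
    haveI : Algebra.FiniteType k (MvPolynomial τ A) :=
      Algebra.FiniteType.trans (S := A) inferInstance inferInstance
    have h1 : Algebra.trdeg k (MvPolynomial L k) ≤ Algebra.trdeg k (MvPolynomial τ A) :=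
      trdeg_le_of_injective Φ hi
    have h2 := E4O.ringKrullDim_eq_trdeg k (MvPolynomial τ A)
    have h3 := E4O.ringKrullDim_eq_trdeg k (MvPolynomial L k)
    have h4 : Cardinal.toNat (Algebra.trdeg k (MvPolynomial L k)) ≤
        Cardinal.toNat (Algebra.trdeg k (MvPolynomial τ A)) :=
      Cardinal.toNat_le_toNat h1 trdeg_lt_aleph0_of_finiteType
    rw [MvPolynomial.ringKrullDim_of_isNoetherianRing] at h2 h3
    have hLt : Nat.card L = Nat.card τ + r := by
      rw [Nat.card_eq_fintype_card, Nat.card_eq_fintype_card, Fintype.card_subtype_compl,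
        Fintype.card_coe, Finset.card_image_of_injective _ hinj, Finset.card_univ, Fintype.card_fin]
      have : r ≤ Fintype.card L := by simpa using Fintype.card_le_of_injective a hinj
      omega
    rw [ringKrullDim_eq_zero_of_isField (Field.toIsField k), zero_add] at h3
    obtain ⟨d, hd⟩ : ∃ d : ℕ, ringKrullDim A = d := ⟨_, E4O.ringKrullDim_eq_trdeg k A⟩
    rw [hd] at h2 hdim
    norm_cast at h2 h3 hdim
    omega
  obtain ⟨F, hF0, hF⟩ : ∃ F, F ≠ 0 ∧ Φ F = 0 := by
    by_contra hc
    push Not at hc
    exact hni ((injective_iff_map_eq_zero Φ).2 fun F hF => by_contra fun h => hc F h hF)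
  refine ⟨F, hF0, fun v P hP hv => ?_⟩
  let π : A →ₐ[k] A ⧸ P := Ideal.Quotient.mkₐ k P
  let ev : MvPolynomial τ A →ₐ[k] A ⧸ P :=
    ((Ideal.Quotient.mkₐ k P).comp ((MvPolynomial.aeval fun t : τ => algebraMap k A (v t.1) :
      MvPolynomial τ A →ₐ[A] A).restrictScalars k))
  have hkey : ev.comp Φ = MvPolynomial.aeval (fun l => algebraMap k (A ⧸ P) (v l)) := by
    refine MvPolynomial.algHom_ext fun l => ?_
    rw [AlgHom.comp_apply, MvPolynomial.aeval_X, MvPolynomial.aeval_X]
    by_cases h : ∃ i, a i = l
    · obtain ⟨i, rfl⟩ := h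
      rw [hWa]
      have hsum : ∑ l, algebraMap k A (v l) * c l i =
          algebraMap k A (v (a i)) + ∑ t : τ, algebraMap k A (v t.1) * c t.1 i := by
        rw [← Finset.sum_add_sum_compl (Finset.univ.image a),
          Finset.sum_image (fun x _ y _ e => hinj e)]
        congr 1
        · simp only [ha, mul_ite, mul_one, mul_zero, Finset.sum_ite_eq', Finset.mem_univ, if_true]
        · rw [Finset.sum_subtype (p := fun l => l ∉ Finset.univ.image a) _
            (fun x => Finset.mem_compl)]
      have h1 := Ideal.Quotient.eq_zero_iff_mem.2 (hv i)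
      rw [hsum, map_add] at h1
      simp only [map_neg, map_sum]
      rw [eq_comm, ← add_eq_zero_iff_eq_neg]
      refine Eq.trans (congrArg₂ (· + ·) rfl ?_) h1
      rw [map_sum]
      refine Finset.sum_congr rfl fun t _ => ?_
      simp [ev, mul_comm]
    · have ht : l ∉ Finset.univ.image a := fun hl => h (by simpa using hl)
      rw [show W l = MvPolynomial.X ⟨l, ht⟩ from hWt ⟨l, ht⟩]
      simp [ev]
  have h2 : MvPolynomial.aeval (fun l => algebraMap k (A ⧸ P) (v l)) F = 0 := by
    rw [← hkey, AlgHom.comp_apply, hF, map_zero]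
  rw [show (fun l => algebraMap k (A ⧸ P) (v l)) = algebraMap k (A ⧸ P) ∘ v from rfl,
    MvPolynomial.aeval_algebraMap_apply] at h2
  change algebraMap k (A ⧸ P) (MvPolynomial.eval v F) = 0 at h2
  exact (FaithfulSMul.algebraMap_injective k (A ⧸ P)) (h2.trans (map_zero _).symm)

end Groth.Agent.Cyc90.GenSec
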